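import Mathlib
set_option linter.all false

/-!
# `Fi22` as a 3-transposition group: elements of order 5, 7, 11 (helper51)

`Ctx K T` : the class `T` of 3510 transpositions of `K = Fi22` with the local facts (from the unitary coordinates).
-/

set_option autoImplicit false

namespace Cfsg.Agent.LThreeFi22

universe v

/-- The facts on `Fi22` used for the elements of order three. -/
structure Ctx (K : Type v) [Group K] (T : Set K) : Prop where
  card : Nat.card K = 64561751654400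
  ncard : T.ncard = 3510
  sq : ∀ t ∈ T, t * t = 1
  ne1 : ∀ t ∈ T, t ≠ 1
  conj : ∀ t ∈ T, ∀ g : K, g * t * g⁻¹ ∈ T
  three : ∀ a ∈ T, ∀ b ∈ T, a * b = b * a ∨ a * b * a = b * a * b
  link : ∀ d ∈ T, {c | c ∈ T ∧ c ≠ d ∧ d * c = c * d}.ncard = 693
  transC : ∀ a ∈ T, ∀ b ∈ T, ∀ a' ∈ T, ∀ b' ∈ T, a ≠ b → a' ≠ b' → a * b = b * a → a' * b' = b' * a' →
    ∃ g : K, g * a * g⁻¹ = a' ∧ g * b * g⁻¹ = b'
  transN : ∀ a ∈ T, ∀ b ∈ T, ∀ a' ∈ T, ∀ b' ∈ T, a * b ≠ b * a → a' * b' ≠ b' * a' →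
    ∃ g : K, g * a * g⁻¹ = a' ∧ g * b * g⁻¹ = b'
  mupos : ∃ a ∈ T, ∃ b ∈ T, ∃ c ∈ T, a * b ≠ b * a ∧ a * c = c * a ∧ b * c = c * b
  /-- an element commuting with the product of two commuting transpositions fixes or interchanges them -/
  cz : ∀ a ∈ T, ∀ b ∈ T, a ≠ b → a * b = b * a → ∀ x : K, x * (a * b) = a * b * x →
    (x * a = a * x ∧ x * b = b * x) ∨ (x * a * x⁻¹ = b ∧ x * b * x⁻¹ = a)
  /-- two commuting transpositions do not both commute with an element of order 7 or 11 -/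
  iso7 : ∀ r, r = 7 ∨ r = 11 → ∀ y : K, y ^ r = 1 → y ≠ 1 → ∀ d ∈ T, y * d = d * y →
    ∀ c ∈ T, c ≠ d → d * c = c * d → y * c ≠ c * y
  /-- no element of order `21` or `33` in the centralizer of a transposition -/
  three7 : ∀ r, r = 7 ∨ r = 11 → ∀ y : K, y ^ r = 1 → y ≠ 1 → ∀ d ∈ T, y * d = d * y →
    ∀ x : K, x ^ 3 = 1 → x * y = y * x → x * d = d * x → x = 1
  /-- the transpositions commuting with `d` and an element `u` of order five commuting with `d` -/
  iso5 : ∀ u : K, u ^ 5 = 1 → u ≠ 1 → ∀ d ∈ T, u * d = d * u →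
    {c | c ∈ T ∧ c ≠ d ∧ d * c = c * d ∧ u * c = c * u}.ncard = 3 ∧
    ∀ b ∈ T, ∀ c ∈ T, b ≠ d → c ≠ d → d * b = b * d → d * c = c * d → u * b = b * u → u * c = c * u →
      b * c = c * b → b = c
  three5 : ∀ u : K, u ^ 5 = 1 → u ≠ 1 → ∀ d ∈ T, u * d = d * u →
    ∀ x : K, x ^ 3 = 1 → x * u = u * x → x * d = d * x →
    (∀ c ∈ T, c ≠ d → d * c = c * d → u * c = c * u → x * c = c * x) → x = 1
  ex5 : ∀ u : K, u ^ 5 = 1 → u ≠ 1 → ∃ t ∈ T, u * t = t * u

section Fix

variable {K : Type v} [Group K] [Finite K]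

theorem fix_modEq {r : ℕ} (hr : r.Prime) {y : K} (hy : y ^ r = 1) {S : Set K}
    (hS : ∀ s ∈ S, y * s * y⁻¹ ∈ S) : S.ncard ≡ {s | s ∈ S ∧ y * s = s * y}.ncard [MOD r] := by
  classical
  have := Fact.mk hr
  have : Fintype ↥S := Fintype.ofFinite _
  let f : Function.End ↥S := fun s => ⟨y * s * y⁻¹, hS s s.2⟩
  have hfn : ∀ (n : ℕ) (s : ↥S), ((f ^ n) s : K) = y ^ n * s * (y ^ n)⁻¹ := by
    intro n
    induction n with
    | zero =>
      intro s
      rw [pow_zero, pow_zero, one_mul, inv_one, mul_one]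
      rfl
    | succ n ih =>
      intro s
      rw [pow_succ' f]
      change y * ((f ^ n) s : K) * y⁻¹ = _
      rw [ih, pow_succ' y]
      group
  have hf : f ^ r ^ 1 = 1 := by
    funext s
    apply Subtype.ext
    rw [hfn, pow_one, hy]
    change 1 * (s : K) * 1⁻¹ = s
    group
  have h := Equiv.Perm.card_fixedPoints_modEq hf
  have h1 : Fintype.card ↥S = S.ncard := by
    rw [← Nat.card_eq_fintype_card]; rfl
  have h2 : Fintype.card ↥(Function.fixedPoints f) = {s | s ∈ S ∧ y * s = s * y}.ncard := by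
    rw [← Nat.card_eq_fintype_card]
    have h3 : {s | s ∈ S ∧ y * s = s * y} = Subtype.val '' (Function.fixedPoints f) := by
      ext x
      constructor
      · rintro ⟨hx, hyx⟩
        refine ⟨⟨x, hx⟩, Subtype.ext ?_, rfl⟩
        change y * x * y⁻¹ = x
        rw [hyx, mul_inv_cancel_right]
      · rintro ⟨⟨z, hz⟩, hfz, rfl⟩
        have h4 : y * z * y⁻¹ = z := congrArg Subtype.val hfz
        exact ⟨hz, mul_inv_eq_iff_eq_mul.1 h4⟩
    rw [h3, Set.ncard_image_of_injective _ Subtype.val_injective]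
    rfl
  rw [h1, h2] at h
  exact h

omit [Finite K] in
theorem ncard_conj {S S' : Set K} (g : K) (h : ∀ x, x ∈ S ↔ g * x * g⁻¹ ∈ S') : S.ncard = S'.ncard := by
  have h1 : S' = (MulAut.conj g) '' S := by
    ext x
    constructor
    · intro hx
      refine ⟨g⁻¹ * x * g, ?_, by simp [mul_assoc]⟩
      rw [h]
      have : g * (g⁻¹ * x * g) * g⁻¹ = x := by group
      rwa [this]
    · rintro ⟨y, hy, rfl⟩
      exact (h y).1 hy
  rw [h1, Set.ncard_image_of_injective _ (MulAut.conj g).injective]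

omit [Finite K] in
theorem conj_comm_iff (g x y : K) : g * x * g⁻¹ * (g * y * g⁻¹) = g * y * g⁻¹ * (g * x * g⁻¹) ↔ x * y = y * x := by
  constructor
  · intro h
    have h1 : g * (x * y) * g⁻¹ = g * (y * x) * g⁻¹ := by
      calc g * (x * y) * g⁻¹ = g * x * g⁻¹ * (g * y * g⁻¹) := by group
        _ = _ := h
        _ = g * (y * x) * g⁻¹ := by group
    exact mul_left_cancel (mul_right_cancel h1)
  · intro h
    calc g * x * g⁻¹ * (g * y * g⁻¹) = g * (x * y) * g⁻¹ := by group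
      _ = g * (y * x) * g⁻¹ := by rw [h]
      _ = _ := by group

end Fix

variable {K : Type v} [Group K] {T : Set K}

namespace Ctx

section basic

variable (C : Ctx K T)
include C

theorem finite : Finite K := Nat.finite_of_card_ne_zero (by rw [C.card]; norm_num)

theorem inv {t : K} (ht : t ∈ T) : t⁻¹ = t := inv_eq_of_mul_eq_one_left (C.sq t ht)

theorem conj_iff (g : K) {t : K} : g * t * g⁻¹ ∈ T ↔ t ∈ T := by
  constructor
  · intro h
    have h1 := C.conj _ h g⁻¹
    have : g⁻¹ * (g * t * g⁻¹) * g⁻¹⁻¹ = t := by group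
    rwa [this] at h1
  · exact fun h => C.conj t h g

theorem far {a : K} (ha : a ∈ T) : {e | e ∈ T ∧ a * e ≠ e * a}.ncard = 2816 := by
  have := C.finite
  have h1 := C.link a ha
  have h2 : T = insert a ({c | c ∈ T ∧ c ≠ a ∧ a * c = c * a} ∪ {e | e ∈ T ∧ a * e ≠ e * a}) := by
    ext x
    constructor
    · intro hx
      by_cases h3 : x = a
      · exact Or.inl h3
      · by_cases h4 : a * x = x * a
        · exact Or.inr (Or.inl ⟨hx, h3, h4⟩)
        · exact Or.inr (Or.inr ⟨hx, h4⟩)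
    · rintro (rfl | ⟨hx, -, -⟩ | ⟨hx, -⟩)
      · exact ha
      · exact hx
      · exact hx
  have h3 : Disjoint {c | c ∈ T ∧ c ≠ a ∧ a * c = c * a} {e | e ∈ T ∧ a * e ≠ e * a} := by
    rw [Set.disjoint_left]
    rintro x ⟨-, -, h4⟩ ⟨-, h5⟩
    exact h5 h4
  have h4 : a ∉ {c | c ∈ T ∧ c ≠ a ∧ a * c = c * a} ∪ {e | e ∈ T ∧ a * e ≠ e * a} := by
    rintro (⟨-, h5, -⟩ | ⟨-, h5⟩)
    · exact h5 rfl
    · exact h5 rfl
  have h5 := C.ncard
  rw [h2, Set.ncard_insert_of_notMem h4 (Set.toFinite _), Set.ncard_union_eq h3 (Set.toFinite _) (Set.toFinite _), h1]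
    at h5
  omega

/-- the number of transpositions commuting with two noncommuting ones is divisible neither by 5 nor by 11 -/
theorem mu {a b : K} (ha : a ∈ T) (hb : b ∈ T) (hab : a * b ≠ b * a) :
    ¬ 5 ∣ {c | c ∈ T ∧ a * c = c * a ∧ b * c = c * b}.ncard ∧
    ¬ 11 ∣ {c | c ∈ T ∧ a * c = c * a ∧ b * c = c * b}.ncard := by
  classical
  have := C.finite
  have : Fintype K := Fintype.ofFinite K
  set N1 : Set K := {c | c ∈ T ∧ c ≠ a ∧ a * c = c * a} with hN1
  set N2 : Set K := {e | e ∈ T ∧ a * e ≠ e * a} with hN2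
  set m := {c | c ∈ T ∧ a * c = c * a ∧ b * c = c * b}.ncard with hm
  have c1 : N1.ncard = 693 := C.link a ha
  have c2 : N2.ncard = 2816 := C.far ha
  -- `μ`
  have hmu : ∀ e ∈ N2, {c | c ∈ N1 ∧ e * c = c * e}.ncard = m := by
    rintro e ⟨he, hae⟩
    obtain ⟨g, hg1, hg2⟩ := C.transN a ha b hb a ha e he hab hae
    rw [hm]
    symm
    apply ncard_conj g
    intro x
    constructor
    · rintro ⟨hx, h1, h2⟩
      refine ⟨⟨C.conj x hx g, fun h => ?_, ?_⟩, ?_⟩
      · have h3 : x = a := by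
          have : g * x * g⁻¹ = g * a * g⁻¹ := by rw [h, hg1]
          exact mul_left_cancel (mul_right_cancel this)
        apply hab
        rw [← h3]
        exact h2.symm
      · have := (conj_comm_iff g a x).2 h1
        rwa [hg1] at this
      · have := (conj_comm_iff g b x).2 h2
        rwa [hg2] at this
    · rintro ⟨⟨hx, -, h1⟩, h2⟩
      refine ⟨(C.conj_iff g).1 hx, (conj_comm_iff g a x).1 ?_, (conj_comm_iff g b x).1 ?_⟩
      · rwa [hg1]
      · rwa [hg2]
  -- `k`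
  have hne : N1.Nonempty := by
    rw [← Set.ncard_pos (Set.toFinite _)]
    omega
  obtain ⟨c0, hc0⟩ := hne
  have hk : ∀ c ∈ N1, {e | e ∈ N2 ∧ e * c = c * e}.ncard = {e | e ∈ N2 ∧ e * c0 = c0 * e}.ncard := by
    rintro c ⟨hc, hca, hac⟩
    obtain ⟨g, hg1, hg2⟩ := C.transC a ha c hc a ha c0 hc0.1 hca.symm hc0.2.1.symm hac hc0.2.2
    apply ncard_conj g
    intro x
    have e1 := conj_comm_iff g a x
    have e2 := conj_comm_iff g x c
    rw [hg1] at e1
    rw [hg2] at e2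
    constructor
    · rintro ⟨⟨hx, h1⟩, h2⟩
      exact ⟨⟨C.conj x hx g, fun h => h1 (e1.1 h)⟩, e2.2 h2⟩
    · rintro ⟨⟨hx, h1⟩, h2⟩
      exact ⟨⟨(C.conj_iff g).1 hx, fun h => h1 (e1.2 h)⟩, e2.1 h2⟩
  set k := {e | e ∈ N2 ∧ e * c0 = c0 * e}.ncard with hkdef
  have hk692 : k ≤ 692 := by
    have h1 : {e | e ∈ N2 ∧ e * c0 = c0 * e} ⊆ {c | c ∈ T ∧ c ≠ c0 ∧ c0 * c = c * c0} \ {a} := by
      rintro x ⟨⟨hx, h2⟩, h3⟩
      refine ⟨⟨hx, ?_, h3.symm⟩, ?_⟩
      · rintro rfl
        exact h2 hc0.2.2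
      · rintro rfl
        exact h2 rfl
    have h2 := Set.ncard_le_ncard h1 (Set.toFinite _)
    have h3 : a ∈ {c | c ∈ T ∧ c ≠ c0 ∧ c0 * c = c * c0} := ⟨ha, hc0.2.1.symm, hc0.2.2.symm⟩
    rw [Set.ncard_sdiff_singleton_of_mem h3, C.link c0 hc0.1] at h2
    omega
  -- double counting
  have hdc : 693 * k = 2816 * m := by
    have h1 := Finset.sum_card_bipartiteAbove_eq_sum_card_bipartiteBelow (s := N1.toFinset) (t := N2.toFinset)
      (fun c e : K => e * c = c * e)
    have h2 : ∀ c ∈ N1.toFinset, (N2.toFinset.bipartiteAbove (fun c e : K => e * c = c * e) c).card = k := by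
      intro c hc
      rw [← hk c (Set.mem_toFinset.1 hc), Set.ncard_eq_toFinset_card']
      congr 1
      ext e
      simp [Finset.bipartiteAbove]
    have h3 : ∀ e ∈ N2.toFinset, (N1.toFinset.bipartiteBelow (fun c e : K => e * c = c * e) e).card = m := by
      intro e he
      rw [← hmu e (Set.mem_toFinset.1 he), Set.ncard_eq_toFinset_card']
      congr 1
      ext c
      simp [Finset.bipartiteBelow]
    rw [Finset.sum_congr rfl h2, Finset.sum_congr rfl h3, Finset.sum_const, Finset.sum_const,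
      ← Set.ncard_eq_toFinset_card', ← Set.ncard_eq_toFinset_card', c1, c2, smul_eq_mul, smul_eq_mul] at h1
    exact h1
  have hmpos : 0 < m := by
    obtain ⟨a', ha', b', hb', c', hc', h1, h2, h3⟩ := C.mupos
    obtain ⟨g, hg1, hg2⟩ := C.transN a' ha' b' hb' a ha b hb h1 hab
    rw [hm, Set.ncard_pos (Set.toFinite _)]
    refine ⟨g * c' * g⁻¹, C.conj c' hc' g, ?_, ?_⟩
    · have := (conj_comm_iff g a' c').2 h2
      rwa [hg1] at this
    · have := (conj_comm_iff g b' c').2 h3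
      rwa [hg2] at this
  omega

end basic

end Ctx

end Cfsg.Agent.LThreeFi22
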