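import Cfsg.Agent.H341.ThreeList_m3
import Cfsg.Agent.LThreeFi22.Rows
import Cfsg.Agent.S0822
import Cfsg.Agent.Prune
set_option linter.all false
prune_inst 0x7f00000000000000000000000000000000000000000000000000000000000000000000000000000000000000000000000000000000000000000000000000000000000000000000000000000000000000003fffffffffffffffffffffffffffbeffbdffffffff
open scoped Cfsg.Agent.FastGrp

/-!
# The order check `OC` (helper51), with helper24's engine `OrdDiv`
-/

set_option autoImplicit false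

namespace Cfsg.Agent.LThreeFi22.Check

open Subgroup Cfsg Cfsg.Agent.OrdDiv Cfsg.Agent.LThreeFi22

universe u

theorem cp_psl {S : Type u} [Group S] {n : ℕ} (hn : 3 ≤ n) {F : Type} [Field F] [Fintype F]
    (hF : Fintype.card F = 3) (h : Nonempty (S ≃* Matrix.ProjectiveSpecialLinearGroup (Fin n) F)) : IsCpSimple 3 S := by
  have : Fact (Nat.Prime 3) := ⟨Nat.prime_three⟩
  have hc : CharP F 3 := charP_of_card_eq_prime_pow (f := 1) (by rw [hF]; norm_num)
  exact Or.inl (Or.inl (Or.inl ⟨F, inferInstance, inferInstance, hc, n, by omega, by omega, h⟩))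

theorem cp_psp {S : Type u} [Group S] {F : Type} [Field F] [Fintype F]
    (hF : Fintype.card F = 3) (h : Nonempty (S ≃* PSp 2 F)) : IsCpSimple 3 S := by
  have : Fact (Nat.Prime 3) := ⟨Nat.prime_three⟩
  have hc : CharP F 3 := charP_of_card_eq_prime_pow (f := 1) (by rw [hF]; norm_num)
  exact Or.inl (Or.inl (Or.inr (Or.inl ⟨F, inferInstance, inferInstance, hc, 2, le_rfl, fun _ => hF.ge, h⟩)))

theorem cp_psu {S : Type u} [Group S] {F : Type} [Field F] [Fintype F]
    (hF : Fintype.card F = 3 ^ 2) (h : Nonempty (S ≃* PSU 4 F 3)) : IsCpSimple 3 S := by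
  have : Fact (Nat.Prime 3) := ⟨Nat.prime_three⟩
  have hc : CharP F 3 := charP_of_card_eq_prime_pow (f := 2) hF
  exact Or.inl (Or.inl (Or.inr (Or.inr (Or.inl
    ⟨F, inferInstance, inferInstance, hc, 4, 3, hF, by norm_num, by norm_num, h⟩))))

/-- **the order check** -/
theorem oc (T : OrderTable.{u}) (hS : ∀ (G : Type u) [Group G] [Finite G] [IsSimpleGroup G], IsKnownSimple' G) :
    Main.OC.{u} := by
  intro S _ _ hs hna hd
  have hk := hS S
  have hna' : ¬ ∀ a b : S, a * b = b * a := fun h => hna ⟨⟨h⟩⟩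
  have hon : ¬ Spor.IsoON S := by
    intro h
    have hc : Nat.card S = 460815505920 := T.spor S (.on, 460815505920) (by decide) h
    rw [hc] at hd
    revert hd
    norm_num
  have h360 : Nat.card S ≠ 360 := by
    intro h
    rw [h] at hd
    revert hd
    norm_num
  refine ⟨?_, h360, hon⟩
  rcases hd with hd | ⟨hd, h81⟩
  · obtain ⟨g, hg, hr⟩ := exists_real T hk hna' (l := [(2, 17), (3, 9), (13, 1)]) (by decide +kernel) hd
    rw [show cands [(2, 17), (3, 9), (13, 1)] (2 ^ 17 * 3 ^ 9 * 13) = [.psl 3 3] from by decide +kernel] at hg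
    simp only [List.mem_cons, List.not_mem_nil, or_false] at hg
    subst hg
    obtain ⟨F, _, _, hF, h⟩ := hr
    exact cp_psl le_rfl hF h
  · obtain ⟨g, hg, hr⟩ := exists_real_filter T hk hna' (l := [(2, 8), (3, 7), (5, 1), (7, 1)]) (by decide +kernel) hd
      (fun n => n % 81 == 0) (by simpa using Nat.mod_eq_zero_of_dvd h81)
    rw [show (cands [(2, 8), (3, 7), (5, 1), (7, 1)] 19595520).filter (fun g => ordN g % 81 == 0) =
      [.alt 9, .psp 2 3, .psu 4 2, .psu 4 3] from by decide +kernel] at hg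
    simp only [List.mem_cons, List.not_mem_nil, or_false] at hg
    rcases hg with rfl | rfl | rfl | rfl
    · exact Or.inr (Or.inl ⟨9, Or.inr (Or.inr rfl), hr⟩)
    · obtain ⟨F, _, _, hF, h⟩ := hr
      exact cp_psp hF h
    · obtain ⟨F, _, _, hF, ⟨e⟩⟩ := hr
      obtain ⟨e'⟩ := Cfsg.Agent.S0822.result (F := F) (K := ZMod 3) hF (by rw [ZMod.card])
      exact cp_psp (F := ZMod 3) (by rw [ZMod.card]) ⟨e.trans e'⟩
    · obtain ⟨F, _, _, hF, h⟩ := hr
      exact cp_psu hF h

/-- row `fi22` of `FiveC` -/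
theorem c (T : OrderTable.{u}) (hS : ∀ (G : Type u) [Group G] [Finite G] [IsSimpleGroup G], IsKnownSimple' G) :
    SigTab.CThree.{u} (fun X _ => Spor.IsoFi22 X) := Rows.c_of (oc T hS)

end Cfsg.Agent.LThreeFi22.Check
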